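import Cfsg.Agent.Lib.ToddCox.L37T.Main
import Cfsg.Agent.Lib.ToddCox.Final
set_option autoImplicit false
set_option maxRecDepth 100000
namespace Cfsg.Agent.Lib.ToddCox.L37O
def O_0 : ℕ := 0x80d0000040000700809000004000060040e000000000050040a00000000004004090000000000300408000000000020000000000000001010010000a0000380100700002c000370140600008c00036014070000440003501404000084000340140200008400033014040000800003201401000080000310140700004c00030010060000a00002f010010000780002e014070000680002d010000000a00002c010070000340002b010070000180002a014070000580002900c07000014000280100700003c00027010030000a00002601402000044000250100600003c000240100400003c000230100200003c000220100700001c000210100700002000020010050000380001f00c0700000c0001e010040000340001d010060000300001c010050000300001b010040000300001a0100500002c000190100400002c000180100200002c00017010050000240001601002000024000150100500002000014010040000200001301002000020000120100000001c0001100c070000100001000c050000140000f00c040000140000e00c030000140000d00c020000140000c00c060000100000b00c050000100000a00c000000100000900c060000080000800c050000080000700c0100000800006008060000040000500802000004000040080100000400003008000000040000200407000000000010000000000000000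
def O_1 : ℕ := 0x101000007c00014014110000ac0001300c11000014000120100f00000c0001100c100000640000f0080f0000040000e0141100002c0000d014100000500000c0101100000c0000b008100000080000a008110000080000800c10000014000070040f00000000006004110000000000500000000000000030140900009c0003801409000094000370100e0000880003601009000088000350100c000080000340100a000080000330100c00007c000320100900007c000310100e00007800030010090000780002f010090000740002e010090000680002d0100c0000600002c010090000600002b0100d00005c0002a0100c000058000290100c00004c000280100900004c000270100d000048000260100a0000400002500c0e0000380002400c0c0000380002300c0a0000380002200c090000380002100c080000380002000c0d0000340001f00c0d0000300001e00c0c0000300001d00c0e00002c0001c00c0d00002c0001b00c0c00002c0001a00c0d0000280001900c0c0000280001800c0a0000280001700c0d0000200001600c0a0000200001500c0d00001c0001400c0c00001c0001300c0a00001c0001200c080000180001100c0d000014000100080d0000100000f0080c0000100000e0080b0000100000d0080a0000100000c0080e00000c0000b0080d00000c0000a0080800000c000090080e00000400008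
def O_2 : ℕ := 0x81500001800037008140000180003500c150000280002b00c140000080002600c15000008000230041300000000021004140000000001d01015000020000190041500000000013008130000180000f008150000140000b00000000000000050100f00007c0003801810000034000370140f0000ac0003600c0f00006400035010100000840003401010000030000330100f00002800032014120000ac00031018100000700003000c100000240002f00c110000240002e018110000700002d0101100009c0002c014100000180002b010110000b40002a00c1100006400029018100000b80002800c1000001000027010100000b4000260141000002c00025014100000a80002401c12000080000230140f00005c000220081000000400021018100000a4000200101000009c0001f010100000980001e00c0f0000100001d010110000280001b0140f0000180001a0181000008c00019018120000700001801811000074000170180f00007400016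
def oT_1_3 (j : ℕ) : ℕ := bif Nat.blt j 2 then O_1 else O_2
def oT_0_3 (j : ℕ) : ℕ := bif Nat.blt j 1 then O_0 else (oT_1_3 j)
def oT (j : ℕ) : ℕ := (oT_0_3 j)
noncomputable def oC (h : ℕ) : ℕ := Nat.rec (motive := fun _ => ℕ) (oT 0) (fun n _ => oT (Nat.succ n)) h
noncomputable def orbR (j : ℕ) : ℕ := Nat.land (Nat.shiftRight (oC (Nat.shiftRight j 6)) (Nat.mul (Nat.land j 63) 64)) 18446744073709551615
def L : List (List ℕ) := [[nat_lit 0],
  [nat_lit 1],
  [nat_lit 2],
  [nat_lit 3],
  [nat_lit 4],
  [nat_lit 5],
  [nat_lit 6],
  [nat_lit 7],
  [nat_lit 0],
  [nat_lit 1],
  [nat_lit 2],
  [nat_lit 3],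
  [nat_lit 4],
  [nat_lit 5],
  [nat_lit 6],
  [nat_lit 4, nat_lit 0],
  [nat_lit 5, nat_lit 1],
  [nat_lit 6, nat_lit 1, nat_lit 6],
  [nat_lit 6, nat_lit 0, nat_lit 6],
  [nat_lit 5, nat_lit 1],
  [nat_lit 6, nat_lit 0, nat_lit 6, nat_lit 0, nat_lit 4],
  [nat_lit 4, nat_lit 0, nat_lit 5, nat_lit 1, nat_lit 4, nat_lit 0, nat_lit 1, nat_lit 5, nat_lit 0, nat_lit 4]]
end Cfsg.Agent.Lib.ToddCox.L37O
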