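import Cfsg.Agent.Lib.ToddCox.L37O.BaseL
import Cfsg.Agent.Lib.ToddCox.Prim
set_option autoImplicit false
set_option maxRecDepth 100000
namespace Cfsg.Agent.Lib.ToddCox.L37O
def pr_0 : ℕ := 0x10010000a0000380100700002c00037014010000a800036014070000440003501404000084000340140200008400033014040000800003201400000084000310140700004c00030010060000a00002f010010000780002e014060000840002d010000000a00002c010070000340002b010070000180002a0140600006c0002900c07000014000280100700003c00027010030000a00002601402000044000250100600003c000240100400003c0002301000000078000220100700001c000210100700002000020010040000780001f00c0700000c0001e010040000340001d010020000400001c010020000780001b010040000300001a0100500002c000190100400002c000180100200002c00017010050000240001601002000024000150100500002000014010040000200001301002000020000120100000001c0001100c070000100001000c050000140000f00c040000140000e00c030000140000d00c020000140000c00c060000100000b00c050000100000a00c000000100000900c060000080000800c050000080000700c0100000800006008060000040000500802000004000040080100000400003008000000040000200407000000000010000000000000000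
def prT (j : ℕ) : ℕ := pr_0
noncomputable def prC (h : ℕ) : ℕ := Nat.rec (motive := fun _ => ℕ) (prT 0) (fun n _ => prT (Nat.succ n)) h
noncomputable def prR (j : ℕ) : ℕ := Nat.land (Nat.shiftRight (prC (Nat.shiftRight j 6)) (Nat.mul (Nat.land j 63) 64)) 18446744073709551615
def PL0 : List (List ℕ) := [[nat_lit 0], [nat_lit 1], [nat_lit 2], [nat_lit 3], [nat_lit 4], [nat_lit 5], [nat_lit 6], [nat_lit 7]]
end Cfsg.Agent.Lib.ToddCox.L37O
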